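import Groth.Agent.Lib.EtStalk.Restr
import Groth.Agent.Lib.EtStalk.JCont
import Groth.Agent.Lib.EtSite.Sheaf
import Groth.Prelude.Def_EtRestW
import Groth.Prelude.Def_EtCore
import Groth.Prelude.Def_EtMod2

/-!
# Locally constant sheaves with values in a category, and inverse images
-/

set_option autoImplicit false
set_option backward.isDefEq.respectTransparency.types false

universe u v w

open CategoryTheory CategoryTheory.Limits AlgebraicGeometry Opposite

namespace Groth.Agent.LocConstGen24

variable {X Y : Scheme.{u}}

section Site

variable (U : X.Etale)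

instance etale_hom : AlgebraicGeometry.Etale U.hom := U.prop

/-- Etale `U`-schemes as objects over `U`. -/
noncomputable def toOver : U.left.Etale ⥤ Over U where
  obj V := Over.mk (MorphismProperty.Over.homMk (B := U) V.hom rfl : (EtShriek.compEtale U.hom).obj V ⟶ U)
  map {V W} g := Over.homMk ((EtShriek.compEtale U.hom).map g)
    (MorphismProperty.Over.Hom.ext (MorphismProperty.Over.w g))
  map_id V := Over.OverMorphism.ext ((EtShriek.compEtale U.hom).map_id V)
  map_comp f g := Over.OverMorphism.ext ((EtShriek.compEtale U.hom).map_comp f g)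

/-- An object over `U` as an etale `U`-scheme. -/
noncomputable def ofOverObj (O : Over U) : U.left.Etale :=
  MorphismProperty.Over.mk ⊤ O.hom.left
    (EtCoh.etaleMP.of_postcomp (W' := EtCoh.etaleMP) O.hom.left U.hom U.prop
      (by rw [MorphismProperty.Over.w O.hom]; exact O.left.prop))

/-- Objects over `U` as etale `U`-schemes. -/
noncomputable def ofOver : Over U ⥤ U.left.Etale where
  obj O := ofOverObj U O
  map {O P} g := MorphismProperty.Over.homMk g.left.left
    (congrArg (fun t => t.left) (Over.w g))
  map_id _ := MorphismProperty.Over.Hom.ext rfl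
  map_comp _ _ := MorphismProperty.Over.Hom.ext rfl

/-- The unit of the equivalence. -/
noncomputable def unitIso : 𝟭 U.left.Etale ≅ toOver U ⋙ ofOver U :=
  NatIso.ofComponents (fun V => MorphismProperty.Over.isoMk (Iso.refl _) (Category.id_comp _))
    (fun {V W} g => MorphismProperty.Over.Hom.ext
      ((Category.comp_id g.left).trans (Category.id_comp g.left).symm))

/-- The counit of the equivalence. -/
noncomputable def counitIso : ofOver U ⋙ toOver U ≅ 𝟭 (Over U) :=
  NatIso.ofComponents (fun O => Over.isoMk (MorphismProperty.Over.isoMk (Iso.refl _)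
      ((Category.id_comp _).trans (MorphismProperty.Over.w O.hom).symm))
      (MorphismProperty.Over.Hom.ext (Category.id_comp _)))
    (fun {O P} g => Over.OverMorphism.ext (MorphismProperty.Over.Hom.ext
      ((Category.comp_id g.left.left).trans (Category.id_comp g.left.left).symm)))

/-- The equivalence of sites `U.left.Etale ≌ Over U`. -/
noncomputable def siteEquiv : U.left.Etale ≌ Over U :=
  CategoryTheory.Equivalence.mk (toOver U) (ofOver U) (unitIso U) (counitIso U)

instance : (toOver U).IsEquivalence := (siteEquiv U).isEquivalence_functor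

instance : (ofOver U).IsEquivalence := (siteEquiv U).isEquivalence_inverse

theorem coverPreserving_toOver :
    CoverPreserving U.left.smallEtaleTopology (X.smallEtaleTopology.over U) (toOver U) := by
  refine ⟨fun {V} S hS => ?_⟩
  rw [GrothendieckTopology.mem_over_iff, EtSite.mem_et_iff]
  intro x
  obtain ⟨W, g, w, hg, hw⟩ := (EtSite.mem_et_iff V S).1 hS x
  refine ⟨(EtShriek.compEtale U.hom).obj W, (EtShriek.compEtale U.hom).map g, w, ?_, hw⟩
  exact ⟨(toOver U).obj W, (toOver U).map g, 𝟙 _, Sieve.image_mem_functorPushforward _ _ hg,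
    (Category.id_comp _).symm⟩

theorem coverPreserving_ofOver :
    CoverPreserving (X.smallEtaleTopology.over U) U.left.smallEtaleTopology (ofOver U) := by
  refine ⟨fun {O} S hS => ?_⟩
  rw [EtSite.mem_et_iff]
  intro x
  rw [GrothendieckTopology.mem_over_iff] at hS
  obtain ⟨W, g, w, ⟨P, r, s, hr, hrs⟩, hw⟩ := (EtSite.mem_et_iff _ _).1 hS x
  refine ⟨(ofOver U).obj P, (ofOver U).map r, (s.left : W.left ⟶ P.left.left) w,
    Sieve.image_mem_functorPushforward _ _ hr, ?_⟩
  subst hrs
  exact hw

instance : (toOver U).IsContinuous U.left.smallEtaleTopology (X.smallEtaleTopology.over U) :=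
  Functor.isContinuous_of_coverPreserving (compatiblePreservingOfFlat _ (toOver U))
    (coverPreserving_toOver U)

instance : (ofOver U).IsContinuous (X.smallEtaleTopology.over U) U.left.smallEtaleTopology :=
  Functor.isContinuous_of_coverPreserving (compatiblePreservingOfFlat _ (ofOver U))
    (coverPreserving_ofOver U)

instance : (EtShriek.compEtale U.hom).IsContinuous U.left.smallEtaleTopology X.smallEtaleTopology :=
  EtStalk.jCont U.hom

/-- The adjunction of the equivalence. -/
noncomputable def siteAdj : toOver U ⊣ ofOver U := (siteEquiv U).toAdjunction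

/-- The other adjunction of the equivalence. -/
noncomputable def siteAdj' : ofOver U ⊣ toOver U := (siteEquiv U).symm.toAdjunction

end Site

variable (A : Type w) [Category.{v} A]

/-- Restriction to the over site, seen on the etale site of `U.left`. -/
noncomputable abbrev transport (U : X.Etale) :
    Sheaf (X.smallEtaleTopology.over U) A ⥤ Sheaf U.left.smallEtaleTopology A :=
  (toOver U).sheafPushforwardContinuous A U.left.smallEtaleTopology (X.smallEtaleTopology.over U)

/-- Its inverse. -/
noncomputable abbrev transportInv (U : X.Etale) :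
    Sheaf U.left.smallEtaleTopology A ⥤ Sheaf (X.smallEtaleTopology.over U) A :=
  (ofOver U).sheafPushforwardContinuous A (X.smallEtaleTopology.over U) U.left.smallEtaleTopology

/-- The adjunction of the transports. -/
noncomputable def transportAdj (U : X.Etale) : transport A U ⊣ transportInv A U :=
  (siteAdj U).sheafPushforwardContinuous _ _

/-- The other adjunction of the transports. -/
noncomputable def transportAdj' (U : X.Etale) : transportInv A U ⊣ transport A U :=
  (siteAdj' U).sheafPushforwardContinuous _ _

/-- The terminal object of the over site. -/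
noncomputable def overTop (U : X.Etale) : IsTerminal (Over.mk (𝟙 U)) := Over.mkIdTerminal

variable [∀ (Z : Scheme.{u}), HasWeakSheafify Z.smallEtaleTopology A]
  [∀ (Z : Scheme.{u}) (U : Z.Etale), HasWeakSheafify (Z.smallEtaleTopology.over U) A]

/-- Transport preserves constant sheaves. -/
noncomputable def transportConst (U : X.Etale) :
    constantSheaf (X.smallEtaleTopology.over U) A ⋙ transport A U ≅
      constantSheaf U.left.smallEtaleTopology A :=
  ((constantSheafAdj (X.smallEtaleTopology.over U) A (overTop U)).comp (transportAdj A U)).leftAdjointUniq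
    ((constantSheafAdj U.left.smallEtaleTopology A (EtCore.topIsTerminal U.left)).ofNatIsoRight
      (NatIso.ofComponents
        (fun F => F.obj.mapIso ((IsTerminal.uniqueUpToIso
          (IsTerminal.isTerminalObj (ofOver U) (Over.mk (𝟙 U)) (overTop U))
          (EtCore.topIsTerminal U.left)).op))
        (fun {F G} φ => (φ.hom.naturality _).symm)))

/-- The inverse transport preserves constant sheaves. -/
noncomputable def transportInvConst (U : X.Etale) :
    constantSheaf U.left.smallEtaleTopology A ⋙ transportInv A U ≅
      constantSheaf (X.smallEtaleTopology.over U) A :=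
  ((constantSheafAdj U.left.smallEtaleTopology A (EtCore.topIsTerminal U.left)).comp
      (transportAdj' A U)).leftAdjointUniq
    ((constantSheafAdj (X.smallEtaleTopology.over U) A (overTop U)).ofNatIsoRight
      (NatIso.ofComponents
        (fun F => F.obj.mapIso ((IsTerminal.uniqueUpToIso
          (IsTerminal.isTerminalObj (toOver U) (EtCoh.top U.left) (EtCore.topIsTerminal U.left))
          (overTop U)).op))
        (fun {F G} φ => (φ.hom.naturality _).symm)))

/-- Restriction along an etale morphism, with values in `A`. -/
noncomputable abbrev res (U : X.Etale) :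
    Sheaf X.smallEtaleTopology A ⥤ Sheaf U.left.smallEtaleTopology A :=
  (EtShriek.compEtale U.hom).sheafPushforwardContinuous A U.left.smallEtaleTopology X.smallEtaleTopology

/-- Restriction to the over site, transported, is restriction. -/
noncomputable def overTransport (U : X.Etale) :
    X.smallEtaleTopology.overPullback A U ⋙ transport A U ≅ res A U :=
  Iso.refl _

theorem over_iff (U : X.Etale) (G : Sheaf X.smallEtaleTopology A) (M : A) :
    Nonempty (G.over U ≅ (constantSheaf (X.smallEtaleTopology.over U) A).obj M) ↔
      Nonempty ((res A U).obj G ≅ (constantSheaf U.left.smallEtaleTopology A).obj M) := by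
  constructor
  · rintro ⟨e⟩
    exact ⟨((overTransport A U).app G).symm ≪≫ (transport A U).mapIso e ≪≫ (transportConst A U).app M⟩
  · rintro ⟨e⟩
    haveI : IsIso ((transportAdj A U).unit) := by
      haveI : (transport A U).IsEquivalence :=
        (Adjunction.toEquivalence (transportAdj A U)).isEquivalence_functor
      infer_instance
    exact ⟨(asIso ((transportAdj A U).unit.app (G.over U))) ≪≫
      (transportInv A U).mapIso ((overTransport A U).app G ≪≫ e) ≪≫ (transportInvConst A U).app M⟩

variable [∀ {Z W : Scheme.{u}} (g : Z ⟶ W),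
  ((EtCoh.bc g).sheafPushforwardContinuous A W.smallEtaleTopology Z.smallEtaleTopology).IsRightAdjoint]

/-- Inverse image with values in `A`. -/
noncomputable abbrev pullA (f : X ⟶ Y) :
    Sheaf Y.smallEtaleTopology A ⥤ Sheaf X.smallEtaleTopology A :=
  (EtCoh.bc f).sheafPullback A Y.smallEtaleTopology X.smallEtaleTopology

/-- Direct image with values in `A`. -/
noncomputable abbrev pushA (f : X ⟶ Y) :
    Sheaf X.smallEtaleTopology A ⥤ Sheaf Y.smallEtaleTopology A :=
  (EtCoh.bc f).sheafPushforwardContinuous A Y.smallEtaleTopology X.smallEtaleTopology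

/-- The adjunction. -/
noncomputable abbrev adjA (f : X ⟶ Y) : pullA A f ⊣ pushA A f :=
  (EtCoh.bc f).sheafAdjunctionContinuous A Y.smallEtaleTopology X.smallEtaleTopology

/-- Inverse images compose. -/
noncomputable def pullCompA {Z : Scheme.{u}} (f : X ⟶ Y) (g : Y ⟶ Z) :
    pullA A (f ≫ g) ≅ pullA A g ⋙ pullA A f :=
  Adjunction.leftAdjointUniq (adjA A (f ≫ g))
    (((adjA A g).comp (adjA A f)).ofNatIsoRight
      (Functor.sheafPushforwardContinuousComp' (F := EtCoh.bc g) (G := EtCoh.bc f)
        (FG := EtCoh.bc (f ≫ g))
        (MorphismProperty.Over.pullbackComp (P := EtCoh.etaleMP) (Q := ⊤) f g).symm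
        A Z.smallEtaleTopology Y.smallEtaleTopology X.smallEtaleTopology))

/-- Inverse images of constant sheaves are constant. -/
noncomputable def pullConstA (f : X ⟶ Y) :
    constantSheaf Y.smallEtaleTopology A ⋙ pullA A f ≅ constantSheaf X.smallEtaleTopology A :=
  ((constantSheafAdj Y.smallEtaleTopology A (EtCore.topIsTerminal Y)).comp (adjA A f)).leftAdjointUniq
    ((constantSheafAdj X.smallEtaleTopology A (EtCore.topIsTerminal X)).ofNatIsoRight
      (NatIso.ofComponents (fun F => F.obj.mapIso (EtCore.bcTopIso f).op)
        (fun {F G} φ => (φ.hom.naturality _).symm)))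

/-- Restriction along an etale morphism is inverse image. -/
noncomputable def resPullIso' {U : Scheme.{u}} (j : U ⟶ X) [AlgebraicGeometry.Etale j] [EtShriek.JCont j] :
    (EtShriek.compEtale j).sheafPushforwardContinuous A U.smallEtaleTopology X.smallEtaleTopology ≅
      pullA A j :=
  ((EtStalk.compBcAdj j).sheafPushforwardContinuous U.smallEtaleTopology
    X.smallEtaleTopology).leftAdjointUniq (adjA A j)

/-- Restriction along the structure morphism is inverse image. -/
noncomputable def resPullIso (U : X.Etale) : res A U ≅ pullA A (U.hom : U.left ⟶ X) :=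
  haveI : AlgebraicGeometry.Etale (U.hom : U.left ⟶ X) := U.prop
  resPullIso' A (U.hom : U.left ⟶ X)

/-- The local triviality at one member is stable under inverse image. -/
theorem over_pull (f : X ⟶ Y) (U : Y.Etale) (G : Sheaf Y.smallEtaleTopology A) (M : A)
    (h : Nonempty (G.over U ≅ (constantSheaf (Y.smallEtaleTopology.over U) A).obj M)) :
    Nonempty (((pullA A f).obj G).over ((EtCoh.bc f).obj U) ≅
      (constantSheaf (X.smallEtaleTopology.over ((EtCoh.bc f).obj U)) A).obj M) := by
  rw [over_iff] at h ⊢
  obtain ⟨e⟩ := h
  let q : ((EtCoh.bc f).obj U).left ⟶ U.left := pullback.fst U.hom f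
  let p : ((EtCoh.bc f).obj U).left ⟶ X := ((EtCoh.bc f).obj U).hom
  have w : q ≫ U.hom = p ≫ f := pullback.condition
  exact ⟨(resPullIso A ((EtCoh.bc f).obj U)).app _ ≪≫ (pullCompA A p f).symm.app G ≪≫
    eqToIso (congrArg (fun h => (pullA A h).obj G) w.symm) ≪≫ (pullCompA A q U.hom).app G ≪≫
    (pullA A q).mapIso (((resPullIso A U).app G).symm ≪≫ e) ≪≫ (pullConstA A q).app M⟩

theorem covers_bc (f : X ⟶ Y) {ι : Type u} (U : ι → Y.Etale) (h : EtCoh.Covers U) :
    EtCoh.Covers (fun i => (EtCoh.bc f).obj (U i)) := by
  intro x
  obtain ⟨i, y, hy⟩ := h (f x)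
  obtain ⟨w, -, hw⟩ := Scheme.Pullback.exists_preimage_pullback (f := (U i).hom) (g := f) y x hy
  exact ⟨i, w, hw⟩

end Groth.Agent.LocConstGen24
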