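import Groth.Agent.Lib.LocConstGen24.Hom
import Mathlib.RingTheory.Finiteness.Basic

/-!
# Morphisms of locally constant sheaves of groups and modules are locally constant
-/

set_option autoImplicit false
set_option backward.isDefEq.respectTransparency.types false

universe u

open CategoryTheory CategoryTheory.Limits AlgebraicGeometry Opposite

namespace Groth.Agent.LocConstGen24

variable {X : Scheme.{u}}

theorem exists_ab (U : X.Etale) (z : U.left) {F G : EtCoh.Ab X} (φ : F ⟶ G)
    {M N : AddCommGrpCat.{u + 1}} [Finite M]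
    (eF : (res AddCommGrpCat.{u + 1} U).obj F ≅ (constantSheaf U.left.smallEtaleTopology AddCommGrpCat.{u + 1}).obj M)
    (eG : (res AddCommGrpCat.{u + 1} U).obj G ≅ (constantSheaf U.left.smallEtaleTopology AddCommGrpCat.{u + 1}).obj N) :
    ∃ (W : U.left.Etale) (w : W.left) (_ : W.hom w = z) (h : M ⟶ N)
      (α : F.over ((EtShriek.compEtale U.hom).obj W) ≅ (constantSheaf (X.smallEtaleTopology.over
        ((EtShriek.compEtale U.hom).obj W)) AddCommGrpCat.{u + 1}).obj M)
      (β : G.over ((EtShriek.compEtale U.hom).obj W) ≅ (constantSheaf (X.smallEtaleTopology.over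
        ((EtShriek.compEtale U.hom).obj W)) AddCommGrpCat.{u + 1}).obj N),
      (X.smallEtaleTopology.overPullback AddCommGrpCat.{u + 1} ((EtShriek.compEtale U.hom).obj W)).map φ ≫ β.hom =
        α.hom ≫ (constantSheaf (X.smallEtaleTopology.over ((EtShriek.compEtale U.hom).obj W))
          AddCommGrpCat.{u + 1}).map h := by
  let t := eta AddCommGrpCat.{u + 1} U.left M ≫
    (eF.inv ≫ (res AddCommGrpCat.{u + 1} U).map φ ≫ eG.hom).hom.app (op (EtCoh.top U.left))
  obtain ⟨W, w, hw, hex, hinj⟩ := exists_const_on_finite (A := AddCommGrpCat.{u + 1}) N z (Set.range t)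
    (Set.finite_range _)
  let r := ((constantSheaf U.left.smallEtaleTopology AddCommGrpCat.{u + 1}).obj N).obj.map (toTop W).op
  choose h hh using fun m => hex (t m) ⟨m, rfl⟩
  let hA : M ⟶ N := AddCommGrpCat.ofHom (AddMonoidHom.mk' h fun a b => hinj (by
    rw [← hh, map_add, map_add, hh, hh, ← map_add]))
  obtain ⟨α, β, he⟩ := exists_hom_triv AddCommGrpCat.{u + 1} U W φ eF eG hA (by
    rw [← Category.assoc (f := eta _ U.left M), ← Category.assoc (f := eta _ U.left M)]
    ext m
    refine (hh m).trans ?_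
    have hn := ConcreteCategory.congr_hom
      ((constantSheafAdj U.left.smallEtaleTopology AddCommGrpCat.{u + 1}
        (EtCore.topIsTerminal U.left)).unit.naturality hA) m
    exact congrArg r hn)
  exact ⟨W, w, hw, hA, α, β, he⟩

theorem exists_mod (Λ : Type (u + 1)) [CommRing Λ] (U : X.Etale) (z : U.left) {F G : EtModW.Mod Λ X}
    (φ : F ⟶ G) {M N : ModuleCat.{u + 1} Λ} [Module.Finite Λ M]
    (eF : (res (ModuleCat.{u + 1} Λ) U).obj F ≅ (constantSheaf U.left.smallEtaleTopology (ModuleCat.{u + 1} Λ)).obj M)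
    (eG : (res (ModuleCat.{u + 1} Λ) U).obj G ≅ (constantSheaf U.left.smallEtaleTopology (ModuleCat.{u + 1} Λ)).obj N) :
    ∃ (W : U.left.Etale) (w : W.left) (_ : W.hom w = z) (h : M ⟶ N)
      (α : F.over ((EtShriek.compEtale U.hom).obj W) ≅ (constantSheaf (X.smallEtaleTopology.over
        ((EtShriek.compEtale U.hom).obj W)) (ModuleCat.{u + 1} Λ)).obj M)
      (β : G.over ((EtShriek.compEtale U.hom).obj W) ≅ (constantSheaf (X.smallEtaleTopology.over
        ((EtShriek.compEtale U.hom).obj W)) (ModuleCat.{u + 1} Λ)).obj N),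
      (X.smallEtaleTopology.overPullback (ModuleCat.{u + 1} Λ) ((EtShriek.compEtale U.hom).obj W)).map φ ≫ β.hom =
        α.hom ≫ (constantSheaf (X.smallEtaleTopology.over ((EtShriek.compEtale U.hom).obj W))
          (ModuleCat.{u + 1} Λ)).map h := by
  classical
  let t := eta (ModuleCat.{u + 1} Λ) U.left M ≫
    (eF.inv ≫ (res (ModuleCat.{u + 1} Λ) U).map φ ≫ eG.hom).hom.app (op (EtCoh.top U.left))
  obtain ⟨S, hS⟩ := (Module.Finite.fg_top (R := Λ) (M := M))
  obtain ⟨W, w, hw, hex, hinj⟩ := exists_const_on_finite (A := ModuleCat.{u + 1} Λ) N z (t '' S)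
    (S.finite_toSet.image _)
  let r := ((constantSheaf U.left.smallEtaleTopology (ModuleCat.{u + 1} Λ)).obj N).obj.map (toTop W).op
  let e := (eta (ModuleCat.{u + 1} Λ) U.left N ≫ r).hom
  have hle : ∀ m : M, (t ≫ r).hom m ∈ LinearMap.range e := by
    intro m
    have : (⊤ : Submodule Λ M) ≤ (LinearMap.range e).comap (t ≫ r).hom := by
      rw [← hS, Submodule.span_le]
      intro s hs
      obtain ⟨n, hn⟩ := hex (t s) ⟨s, hs, rfl⟩
      exact ⟨n, hn.symm⟩
    exact this trivial
  let h : M →ₗ[Λ] N := (LinearEquiv.ofInjective e hinj).symm.toLinearMap.comp ((t ≫ r).hom.codRestrict _ hle)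
  have hh : ∀ m, e (h m) = (t ≫ r).hom m := fun m =>
    congrArg Subtype.val ((LinearEquiv.ofInjective e hinj).apply_symm_apply _)
  obtain ⟨α, β, he⟩ := exists_hom_triv (ModuleCat.{u + 1} Λ) U W φ eF eG (ModuleCat.ofHom h) (by
    rw [← Category.assoc (f := eta _ U.left M), ← Category.assoc (f := eta _ U.left M)]
    ext m
    refine (hh m).symm.trans ?_
    have hn := ConcreteCategory.congr_hom
      ((constantSheafAdj U.left.smallEtaleTopology (ModuleCat.{u + 1} Λ)
        (EtCore.topIsTerminal U.left)).unit.naturality (ModuleCat.ofHom h)) m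
    exact congrArg r hn)
  exact ⟨W, w, hw, _, α, β, he⟩

end Groth.Agent.LocConstGen24
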