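import Groth.Agent.Lib.LocConstGen24.Basic
import Mathlib.CategoryTheory.Sites.LocallyBijective

/-!
# Morphisms between locally constant sheaves are locally constant
-/

set_option autoImplicit false
set_option backward.isDefEq.respectTransparency.types false

universe u v w

open CategoryTheory CategoryTheory.Limits AlgebraicGeometry Opposite

namespace Groth.Agent.LocConstGen24

variable {X Z : Scheme.{u}}

/-- The unique map to the final object. -/
noncomputable def toTop (W : Z.Etale) : W ⟶ EtCoh.top Z := (EtCore.topIsTerminal Z).from W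

variable (A : Type w) [Category.{v} A]
  [∀ (Z : Scheme.{u}), HasWeakSheafify Z.smallEtaleTopology A]

/-- The canonical sections of a constant sheaf. -/
noncomputable abbrev eta (Z : Scheme.{u}) (M : A) :
    M ⟶ ((constantSheaf Z.smallEtaleTopology A).obj M).obj.obj (op (EtCoh.top Z)) :=
  (constantSheafAdj Z.smallEtaleTopology A (EtCore.topIsTerminal Z)).unit.app M

theorem res_map_eq (W : Z.Etale) {M : A} {S : Sheaf Z.smallEtaleTopology A}
    (ψ χ : (constantSheaf Z.smallEtaleTopology A).obj M ⟶ S)
    (h : eta A Z M ≫ ψ.hom.app (op (EtCoh.top Z)) ≫ S.obj.map (toTop W).op =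
      eta A Z M ≫ χ.hom.app (op (EtCoh.top Z)) ≫ S.obj.map (toTop W).op) :
    (res A W).map ψ = (res A W).map χ := by
  let j : W.left ⟶ Z := W.hom
  haveI : AlgebraicGeometry.Etale j := W.prop
  haveI : EtShriek.JCont j := EtStalk.jCont j
  let adj := (EtStalk.compBcAdj j).sheafPushforwardContinuous (E := A) W.left.smallEtaleTopology
    Z.smallEtaleTopology
  refine (adj.homEquiv _ _).injective ?_
  refine ((constantSheafAdj Z.smallEtaleTopology A (EtCore.topIsTerminal Z)).homEquiv _ _).injective ?_
  rw [Adjunction.homEquiv_unit, Adjunction.homEquiv_unit, Adjunction.homEquiv_unit, Adjunction.homEquiv_unit]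
  erw [← adj.unit.naturality ψ, ← adj.unit.naturality χ]
  let c : (EtShriek.compEtale j).obj ((EtCoh.bc j).obj (EtCoh.top Z)) ⟶ W :=
    (EtShriek.compEtale j).map ((EtCore.topIsTerminal W.left).from _) ≫
      MorphismProperty.Over.homMk (𝟙 W.left) (by
        show 𝟙 _ ≫ W.hom = 𝟙 _ ≫ W.hom
        rfl)
  have key : ∀ θ : (constantSheaf Z.smallEtaleTopology A).obj M ⟶ S,
      eta A Z M ≫ (((sheafSections Z.smallEtaleTopology A).obj (op (EtCoh.top Z))).map
        (θ ≫ adj.unit.app S)) =
      (eta A Z M ≫ θ.hom.app (op (EtCoh.top Z)) ≫ S.obj.map (toTop W).op) ≫ S.obj.map c.op := by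
    intro θ
    rw [Category.assoc, Category.assoc, ← S.obj.map_comp, ← op_comp,
      (EtCore.topIsTerminal Z).hom_ext (c ≫ toTop W)
        ((EtStalk.compBcAdj j).counit.app (EtCoh.top Z))]
    simp [adj, Adjunction.sheafPushforwardContinuous, Adjunction.whiskerLeft]
    rfl
  show eta A Z M ≫ _ = eta A Z M ≫ _
  exact (key ψ).trans ((congrArg (· ≫ S.obj.map c.op) h).trans (key χ).symm)

variable [∀ (Z : Scheme.{u}) (U : Z.Etale), HasWeakSheafify (Z.smallEtaleTopology.over U) A]
  [∀ {Z W : Scheme.{u}} (g : Z ⟶ W),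
    ((EtCoh.bc g).sheafPushforwardContinuous A W.smallEtaleTopology Z.smallEtaleTopology).IsRightAdjoint]

/-- The unit of the transport. -/
noncomputable def overIso (U : X.Etale) :
    X.smallEtaleTopology.overPullback A U ≅ res A U ⋙ transportInv A U :=
  haveI : IsIso (transportAdj A U).unit := by
    haveI : (transport A U).IsEquivalence :=
      (Adjunction.toEquivalence (transportAdj A U)).isEquivalence_functor
    infer_instance
  (Functor.rightUnitor _).symm ≪≫ Functor.isoWhiskerLeft _ (asIso (transportAdj A U).unit) ≪≫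
    (Functor.associator _ _ _).symm ≪≫ Functor.isoWhiskerRight (overTransport A U) _

/-- Restriction to a composite. -/
noncomputable def resCompIso (U : X.Etale) (W : U.left.Etale) :
    res A ((EtShriek.compEtale U.hom).obj W) ≅ res A U ⋙ res A W :=
  resPullIso A _ ≪≫ pullCompA A (W.hom : W.left ⟶ U.left) (U.hom : U.left ⟶ X) ≪≫
    Functor.isoWhiskerRight (resPullIso A U).symm _ ≪≫
      Functor.isoWhiskerLeft _ (resPullIso A W).symm

/-- Restriction of constants, seen on the over site. -/
noncomputable def constResIso (U : X.Etale) (W : U.left.Etale) :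
    constantSheaf U.left.smallEtaleTopology A ⋙ res A W ⋙
        transportInv A ((EtShriek.compEtale U.hom).obj W) ≅
      constantSheaf (X.smallEtaleTopology.over ((EtShriek.compEtale U.hom).obj W)) A :=
  (Functor.associator _ _ _).symm ≪≫
    Functor.isoWhiskerRight (Functor.isoWhiskerLeft _ (resPullIso A W) ≪≫
      pullConstA A (W.hom : W.left ⟶ U.left)) _ ≪≫
    transportInvConst A ((EtShriek.compEtale U.hom).obj W)

/-- Restriction to the over site of a composite. -/
noncomputable def overCompIso (U : X.Etale) (W : U.left.Etale) :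
    X.smallEtaleTopology.overPullback A ((EtShriek.compEtale U.hom).obj W) ≅
      res A U ⋙ res A W ⋙ transportInv A ((EtShriek.compEtale U.hom).obj W) :=
  overIso A ((EtShriek.compEtale U.hom).obj W) ≪≫
    Functor.isoWhiskerRight (resCompIso A U W) _ ≪≫ Functor.associator _ _ _

theorem exists_hom_triv (U : X.Etale) (W : U.left.Etale) {F G : Sheaf X.smallEtaleTopology A} (φ : F ⟶ G)
    {M N : A} (eF : (res A U).obj F ≅ (constantSheaf U.left.smallEtaleTopology A).obj M)
    (eG : (res A U).obj G ≅ (constantSheaf U.left.smallEtaleTopology A).obj N) (h : M ⟶ N)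
    (hh : eta A U.left M ≫ (eF.inv ≫ (res A U).map φ ≫ eG.hom).hom.app (op (EtCoh.top U.left)) ≫
        ((constantSheaf U.left.smallEtaleTopology A).obj N).obj.map (toTop W).op =
      eta A U.left M ≫ ((constantSheaf U.left.smallEtaleTopology A).map h).hom.app
          (op (EtCoh.top U.left)) ≫
        ((constantSheaf U.left.smallEtaleTopology A).obj N).obj.map (toTop W).op) :
    ∃ (α : F.over ((EtShriek.compEtale U.hom).obj W) ≅ (constantSheaf (X.smallEtaleTopology.over
          ((EtShriek.compEtale U.hom).obj W)) A).obj M)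
      (β : G.over ((EtShriek.compEtale U.hom).obj W) ≅ (constantSheaf (X.smallEtaleTopology.over
          ((EtShriek.compEtale U.hom).obj W)) A).obj N),
      (X.smallEtaleTopology.overPullback A ((EtShriek.compEtale U.hom).obj W)).map φ ≫ β.hom =
        α.hom ≫ (constantSheaf (X.smallEtaleTopology.over ((EtShriek.compEtale U.hom).obj W)) A).map h := by
  let K := res A W ⋙ transportInv A ((EtShriek.compEtale U.hom).obj W)
  refine ⟨(overCompIso A U W).app F ≪≫ K.mapIso eF ≪≫ (constResIso A U W).app M,
    (overCompIso A U W).app G ≪≫ K.mapIso eG ≪≫ (constResIso A U W).app N, ?_⟩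
  have e : K.map ((res A U).map φ) ≫ K.map eG.hom =
      K.map eF.hom ≫ K.map ((constantSheaf U.left.smallEtaleTopology A).map h) := by
    have h1 := congrArg (fun t => K.map eF.hom ≫ (transportInv A _).map t) (res_map_eq A W _ _ hh)
    refine Eq.trans ?_ h1
    show _ = K.map eF.hom ≫ K.map (eF.inv ≫ (res A U).map φ ≫ eG.hom)
    rw [← K.map_comp, ← K.map_comp, Iso.hom_inv_id_assoc]
  have hn := (constResIso A U W).hom.naturality h
  have ho := (overCompIso A U W).hom.naturality φ
  simp only [Iso.trans_hom, Iso.app_hom, Functor.mapIso_hom, Category.assoc]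
  refine ((Category.assoc _ _ _).symm.trans ((congrArg (· ≫ (K.map eG.hom ≫
    (constResIso A U W).hom.app N)) ho).trans (Category.assoc _ _ _))).trans ?_
  refine congrArg (fun t => (overCompIso A U W).hom.app F ≫ t) ?_
  refine ((Category.assoc _ _ _).symm.trans ((congrArg (· ≫ (constResIso A U W).hom.app N) e).trans
    (Category.assoc _ _ _))).trans ?_
  exact congrArg (fun t => K.map eF.hom ≫ t) hn

/-- Trivialisations restrict. -/
theorem res_triv_of_hom {U V : X.Etale} (g : V ⟶ U) (G : Sheaf X.smallEtaleTopology A) (M : A)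
    (h : Nonempty (G.over U ≅ (constantSheaf (X.smallEtaleTopology.over U) A).obj M)) :
    Nonempty ((res A V).obj G ≅ (constantSheaf V.left.smallEtaleTopology A).obj M) := by
  rw [over_iff] at h
  obtain ⟨e⟩ := h
  let q : V.left ⟶ U.left := g.left
  let p : V.left ⟶ X := V.hom
  have w : q ≫ U.hom = p := MorphismProperty.Over.w g
  exact ⟨(resPullIso A V).app G ≪≫ eqToIso (congrArg (fun h => (pullA A h).obj G) w.symm) ≪≫
    (pullCompA A q U.hom).app G ≪≫
    (pullA A q).mapIso (((resPullIso A U).app G).symm ≪≫ e) ≪≫ (pullConstA A q).app M⟩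

omit [∀ (Z : Scheme.{u}), HasWeakSheafify Z.smallEtaleTopology A]
  [∀ (Z : Scheme.{u}) (U : Z.Etale), HasWeakSheafify (Z.smallEtaleTopology.over U) A]
  [∀ {Z W : Scheme.{u}} (g : Z ⟶ W),
    ((EtCoh.bc g).sheafPushforwardContinuous A W.smallEtaleTopology Z.smallEtaleTopology).IsRightAdjoint] in
theorem exists_common {x : X} (U V : X.Etale) (hU : ∃ y, U.hom y = x) (hV : ∃ y, V.hom y = x) :
    ∃ (W : X.Etale) (_ : W ⟶ U) (_ : W ⟶ V) (w : W.left), W.hom w = x := by
  obtain ⟨a, ha⟩ := hU
  obtain ⟨b, hb⟩ := hV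
  let g : U.left ⟶ X := U.hom
  haveI : AlgebraicGeometry.Etale g := U.prop
  obtain ⟨w, -, hw⟩ := Scheme.Pullback.exists_preimage_pullback (f := V.hom) (g := g) b a
    (hb.trans ha.symm)
  refine ⟨(EtShriek.compEtale g).obj ((EtCoh.bc g).obj V),
    MorphismProperty.Over.homMk ((EtCoh.bc g).obj V).hom rfl, (EtStalk.compBcAdj g).counit.app V, w, ?_⟩
  show g (pullback.snd V.hom g w) = x
  rw [hw]; exact ha

section Elements

variable {A} {FA : A → A → Type*} {CA : A → Type (u + 1)} [∀ X Y, FunLike (FA X Y) (CA X) (CA Y)]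
  [ConcreteCategory A FA]
  [∀ (Z : Scheme.{u}) (P : Z.Etaleᵒᵖ ⥤ A),
    Presheaf.IsLocallySurjective Z.smallEtaleTopology (toSheafify Z.smallEtaleTopology P)]
  [∀ (Z : Scheme.{u}) (P : Z.Etaleᵒᵖ ⥤ A),
    Presheaf.IsLocallyInjective Z.smallEtaleTopology (toSheafify Z.smallEtaleTopology P)]

omit [∀ (Z : Scheme.{u}) (U : Z.Etale), HasWeakSheafify (Z.smallEtaleTopology.over U) A]
  [∀ {Z W : Scheme.{u}} (g : Z ⟶ W),
    ((EtCoh.bc g).sheafPushforwardContinuous A W.smallEtaleTopology Z.smallEtaleTopology).IsRightAdjoint] in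
theorem eta_map_eq (W : Z.Etale) (M : A) :
    eta A Z M ≫ ((constantSheaf Z.smallEtaleTopology A).obj M).obj.map (toTop W).op =
      (toSheafify Z.smallEtaleTopology ((Functor.const _).obj M)).app (op W) := by
  have h := (toSheafify Z.smallEtaleTopology ((Functor.const (Z.Etale)ᵒᵖ).obj M)).naturality (toTop W).op
  have e : eta A Z M = (toSheafify Z.smallEtaleTopology ((Functor.const _).obj M)).app
      (op (EtCoh.top Z)) := by
    simp [eta, constantSheafAdj, constantPresheafAdj]
  rw [e]
  exact h.symm.trans (Category.id_comp _)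

omit [∀ (Z : Scheme.{u}) (U : Z.Etale), HasWeakSheafify (Z.smallEtaleTopology.over U) A]
  [∀ {Z W : Scheme.{u}} (g : Z ⟶ W),
    ((EtCoh.bc g).sheafPushforwardContinuous A W.smallEtaleTopology Z.smallEtaleTopology).IsRightAdjoint] in
theorem exists_const_on_finite (M : A) (z : Z)
    (T : Set (ToType (((constantSheaf Z.smallEtaleTopology A).obj M).obj.obj (op (EtCoh.top Z)))))
    (hT : T.Finite) :
    ∃ (W : Z.Etale) (w : W.left), W.hom w = z ∧
      (∀ s ∈ T, ∃ m : ToType M, ((constantSheaf Z.smallEtaleTopology A).obj M).obj.map (toTop W).op s =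
        (eta A Z M ≫ ((constantSheaf Z.smallEtaleTopology A).obj M).obj.map (toTop W).op) m) ∧
      Function.Injective
        (eta A Z M ≫ ((constantSheaf Z.smallEtaleTopology A).obj M).obj.map (toTop W).op) := by
  let S := ((constantSheaf Z.smallEtaleTopology A).obj M).obj
  let η := toSheafify Z.smallEtaleTopology ((Functor.const (Z.Etale)ᵒᵖ).obj M)
  suffices H : ∃ (W : Z.Etale) (w : W.left), W.hom w = z ∧
      ∀ s ∈ T, ∃ m : ToType M, S.map (toTop W).op s = η.app (op W) m by
    obtain ⟨W, w, hw, hW⟩ := H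
    refine ⟨W, w, hw, fun s hs => ?_, fun m m' he => ?_⟩
    · obtain ⟨m, hm⟩ := hW s hs
      exact ⟨m, hm.trans (ConcreteCategory.congr_hom (eta_map_eq W M) m).symm⟩
    · rw [ConcreteCategory.congr_hom (eta_map_eq W M) m,
        ConcreteCategory.congr_hom (eta_map_eq W M) m'] at he
      have hs := Presheaf.equalizerSieve_mem Z.smallEtaleTopology η _ _ he
      rw [EtSite.mem_et_iff] at hs
      obtain ⟨V, g, v, hg, -⟩ := hs w
      simpa using hg
  induction T, hT using Set.Finite.induction_on with
  | empty => exact ⟨EtCoh.top Z, z, rfl, fun s hs => hs.elim⟩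
  | @insert s T _ _ ih =>
    obtain ⟨W, w, hw, hW⟩ := ih
    have hs := Presheaf.imageSieve_mem Z.smallEtaleTopology η (U := op W) (S.map (toTop W).op s)
    rw [EtSite.mem_et_iff] at hs
    obtain ⟨V, g, v, ⟨m, hm⟩, hv⟩ := hs w
    refine ⟨V, v, ?_, ?_⟩
    · have : V.hom v = W.hom (g.left v) := by
        rw [← MorphismProperty.Over.w g, Scheme.Hom.comp_apply]
      rw [this, hv, hw]
    have hmap : ∀ s', S.map (toTop V).op s' = S.map g.op (S.map (toTop W).op s') := fun s' => by
      rw [← Functor.map_comp_apply, ← op_comp, (EtCore.topIsTerminal Z).hom_ext (g ≫ toTop W) (toTop V)]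
    rintro s' (rfl | hs')
    · exact ⟨m, (hmap _).trans hm.symm⟩
    · obtain ⟨n, hn⟩ := hW s' hs'
      refine ⟨n, (hmap _).trans ((congrArg (S.map g.op) hn).trans ?_)⟩
      exact (NatTrans.naturality_apply η g.op n).symm.trans (by simp)

end Elements

end Groth.Agent.LocConstGen24
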